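import Cfsg.Agent.Lib.PGroup.Power
import Cfsg.Agent.Lib.PGroup.Basic

/-
Splitting off an elementary abelian direct factor of a generalized extraspecial group.
Main results (namespace `Cfsg.Agent.GenExtraspecial`): `exists_complement`, `mulEquivProd`,
`exists_decomp_odd` (abelian subgroup of index p, elementary centre, exponent p: `E × A` with `E`
extraspecial of order `p³` and exponent `p`), `exists_decomp_two` (`D₈ × A`).
-/

set_option autoImplicit false

open Subgroup
open scoped commutatorElement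

namespace Cfsg.Agent.GenExtraspecial

variable {P : Type*} [Group P] {p : ℕ} [Fact p.Prime]

/-- If `P/Z` is elementary abelian, a central subgroup meeting `Z` trivially has a complement above `Z`. -/
theorem exists_complement [Finite P] (Z A : Subgroup P) (hA : A ≤ center P) (hAZ : Z ⊓ A = ⊥)
    (hpow : ∀ x : P, x ^ p ∈ Z) (hcomm : _root_.commutator P ≤ Z) :
    ∃ K : Subgroup P, Z ≤ K ∧ K.Normal ∧ K ⊓ A = ⊥ ∧ K ⊔ A = ⊤ := by
  classical
  obtain ⟨K, hK, hmax⟩ := Set.Finite.exists_maximalFor (fun K : Subgroup P => Nat.card K)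
    {K : Subgroup P | Z ≤ K ∧ K ⊓ A = ⊥} (Set.toFinite _) ⟨Z, le_rfl, hAZ⟩
  obtain ⟨hZK, hKA⟩ := hK
  have hn : K.Normal := ⟨fun k hk g => by
    have h : ⁅g, k⁆ ∈ K := hZK (hcomm (commutator_mem_commutator (mem_top g) (mem_top k)))
    have := K.mul_mem h hk
    simpa [commutatorElement_def] using this⟩
  refine ⟨K, hZK, hn, hKA, eq_top_iff.2 fun x _ => ?_⟩
  by_contra hx
  have hlt : K < K ⊔ zpowers x := left_lt_sup.2 fun h => hx (mem_sup_left (h (mem_zpowers x)))
  have hne : (K ⊔ zpowers x) ⊓ A ≠ ⊥ := fun h => by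
    have h1 := hmax ⟨hZK.trans le_sup_left, h⟩ (Subgroup.card_le_of_le hlt.le)
    exact hlt.ne (Subgroup.eq_of_le_of_card_ge hlt.le h1)
  obtain ⟨a, ha, ha1⟩ : ∃ a ∈ (K ⊔ zpowers x) ⊓ A, a ≠ 1 := by
    by_contra hc
    push Not at hc
    exact hne ((Subgroup.eq_bot_iff_forall _).2 hc)
  obtain ⟨k, hk, y, hy, hky⟩ := mem_sup_of_normal_left.1 ha.1
  obtain ⟨i, rfl⟩ := mem_zpowers_iff.1 hy
  have hxi : x ^ i ∈ K ⊔ A := by
    rw [show x ^ i = k⁻¹ * a by rw [← hky]; simp]
    exact mul_mem (mem_sup_left (inv_mem hk)) (mem_sup_right ha.2)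
  have hxp : x ^ (p : ℤ) ∈ K ⊔ A := by
    rw [zpow_natCast]; exact mem_sup_left (hZK (hpow x))
  by_cases hpi : (p : ℤ) ∣ i
  · refine ha1 ?_
    obtain ⟨j, rfl⟩ := hpi
    have : a ∈ K ⊓ A := ⟨hky ▸ mul_mem hk (by
      rw [zpow_mul, zpow_natCast]; exact K.zpow_mem (hZK (hpow x)) j), ha.2⟩
    rwa [hKA, mem_bot] at this
  · refine hx ?_
    have hg : Int.gcd i p = 1 := Int.isCoprime_iff_gcd_eq_one.1
      (((Nat.prime_iff_prime_int.1 Fact.out).coprime_iff_not_dvd.2 hpi).symm)
    have e := Int.gcd_eq_gcd_ab i (p : ℤ)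
    rw [hg] at e
    rw [← zpow_one x, show (1 : ℤ) = _ from e, zpow_add, zpow_mul, zpow_mul]
    exact mul_mem (zpow_mem hxi _) (zpow_mem hxp _)

/-- A group is the product of a subgroup and a central complement. -/
noncomputable def mulEquivProd (K A : Subgroup P) (hA : A ≤ center P) (h1 : K ⊓ A = ⊥) (h2 : K ⊔ A = ⊤) :
    P ≃* K × A :=
  MulEquiv.symm <| MulEquiv.ofBijective
    (MonoidHom.mk' (fun x : K × A => (x.1 : P) * x.2) fun x y => by
      have hc : (x.2 : P) * y.1 = y.1 * x.2 := (mem_center_iff.1 (hA x.2.2) _).symm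
      simp only [Prod.fst_mul, Prod.snd_mul, Subgroup.coe_mul]
      rw [mul_assoc, ← mul_assoc (y.1 : P), ← hc]
      group)
    ⟨fun x y h => by
      have h' : (x.1 : P) * x.2 = y.1 * y.2 := h
      have hm : (y.1 : P)⁻¹ * x.1 ∈ K ⊓ A := ⟨K.mul_mem (K.inv_mem y.1.2) x.1.2, by
        rw [show (y.1 : P)⁻¹ * x.1 = y.2 * (x.2 : P)⁻¹ by
          rw [eq_mul_inv_iff_mul_eq, mul_assoc, h']; group]
        exact A.mul_mem y.2.2 (A.inv_mem x.2.2)⟩
      rw [h1, mem_bot, inv_mul_eq_one] at hm
      exact Prod.ext (Subtype.ext hm.symm) (Subtype.ext (mul_left_cancel (a := (x.1 : P)) (by rw [h', hm]))),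
    fun g => by
      have : A.Normal := ⟨fun a ha g => by rw [mem_center_iff.1 (hA ha) g, mul_inv_cancel_right]; exact ha⟩
      obtain ⟨k, hk, a, ha, rfl⟩ := mem_sup_of_normal_right.1 (h2.symm ▸ mem_top g : g ∈ K ⊔ A)
      exact ⟨(⟨k, hk⟩, ⟨a, ha⟩), rfl⟩⟩

omit [Fact p.Prime] in
theorem pow_eq_one_of_elementary {Z : Subgroup P} (h : ∀ x ∈ Z, x ^ p = 1) (a : Z) : a ^ p = 1 :=
  Subtype.ext (by rw [SubgroupClass.coe_pow]; exact h a a.2)

section Decomp

variable [Finite P] (hcard : Nat.card (_root_.commutator P) = p) (hfr : frattini P = _root_.commutator P)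
  (hP : IsPGroup p P) (hZ : ∀ x ∈ center P, x ^ p = 1) {C : Subgroup P} (hCi : C.index = p)
  {c : P} (hcC : c ∈ C) (hc : c ∉ center P) (hCab : ∀ x ∈ C, ∀ y ∈ C, x * y = y * x)

include hcard hfr hP hZ hCi hcC hc hCab

theorem exists_decomp :
    ∃ K A : Subgroup P, A ≤ center P ∧ K ⊓ A = ⊥ ∧ K ⊔ A = ⊤ ∧ IsPGroup p K ∧ Nat.card K = p ^ 3 ∧
      center K = (_root_.commutator P).subgroupOf K ∧ _root_.commutator K = center K ∧
      frattini K = center K ∧ Nat.card (center K) = p := by
  have hp : p.Prime := Fact.out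
  set Z₀ := _root_.commutator P with hZ₀
  have hZ₀n : Z₀.Normal := inferInstance
  have hZ₀c : Z₀ ≤ center P := PGroup.le_center_of_card_eq hP hcard
  have hpow : ∀ x : P, x ^ p ∈ Z₀ := fun x => hfr ▸ PGroup.pow_mem_frattini hP x
  have hCn : C.Normal := ⟨fun k hk g => by
    have h1 : ⁅g, k⁆ ∈ C := by
      have hZC : Z₀ ≤ C := by
        rw [← hfr]
        refine frattini_le_coatom ?_
        exact ⟨fun h => by rw [h, index_top] at hCi; exact hp.one_lt.ne hCi,
          fun M hM => by
            by_contra hM'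
            have h2 := Subgroup.index_dvd_of_le hM.le
            rw [hCi] at h2
            rcases (Nat.dvd_prime hp).1 h2 with h3 | h3
            · exact hM' (index_eq_one.1 h3)
            · have h4 := Subgroup.relIndex_mul_index hM.le
              rw [h3, hCi] at h4
              have : C.relIndex M = 1 := by
                have := Nat.eq_of_mul_eq_mul_right hp.pos (h4.trans (one_mul p).symm)
                exact this
              exact hM.not_ge (Subgroup.relIndex_eq_one.1 this)⟩
      exact hZC (commutator_mem_commutator (mem_top g) (mem_top k))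
    simpa [commutatorElement_def] using C.mul_mem h1 hk⟩
  -- the centre has index p in C
  obtain ⟨y, hy⟩ : ∃ y, y ∉ C := by
    by_contra h
    push Not at h
    rw [(eq_top_iff' C).2 h, index_top] at hCi
    exact hp.one_lt.ne hCi
  let φ : C →* Z₀ := MonoidHom.mk' (fun x => ⟨⁅y, (x : P)⁆, commutator_mem_commutator (mem_top y) (mem_top _)⟩)
    fun a b => Subtype.ext (PGroup.commutator_mul_right
      (mem_center_iff.1 (hZ₀c (commutator_mem_commutator (mem_top y) (mem_top (b : P)))) (a : P)))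
  have hsup : C ⊔ zpowers y = ⊤ := by
    by_contra h
    have h2 := Subgroup.index_dvd_of_le (le_sup_left : C ≤ C ⊔ zpowers y)
    rw [hCi] at h2
    rcases (Nat.dvd_prime hp).1 h2 with h3 | h3
    · exact h (index_eq_one.1 h3)
    · refine hy ?_
      have h4 := Subgroup.relIndex_mul_index (le_sup_left : C ≤ C ⊔ zpowers y)
      rw [h3, hCi] at h4
      have h5 : C.relIndex (C ⊔ zpowers y) = 1 := Nat.eq_of_mul_eq_mul_right hp.pos (h4.trans (one_mul p).symm)
      exact Subgroup.relIndex_eq_one.1 h5 (mem_sup_right (mem_zpowers y))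
  have hcy : ∀ x ∈ C, x ∈ center P ↔ ⁅y, x⁆ = 1 := by
    intro x hx
    rw [commutatorElement_eq_one_iff_mul_comm]
    refine ⟨fun h => mem_center_iff.1 h y, fun h => mem_center_iff.2 fun g => ?_⟩
    have : g ∈ centralizer ({x} : Set P) := by
      have hle : C ⊔ zpowers y ≤ centralizer ({x} : Set P) :=
        sup_le (fun z hz => mem_centralizer_singleton_iff.2 (hCab z hz x hx))
          (zpowers_le.2 (mem_centralizer_singleton_iff.2 h))
      exact hle (hsup ▸ mem_top g)
    exact mem_centralizer_singleton_iff.1 this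
  have hZC : center P ≤ C := by
    intro x hx
    by_contra hxC
    refine hc (mem_center_iff.2 fun g => ?_)
    have hsup' : C ⊔ zpowers x = ⊤ := by
      by_contra h
      have h2 := Subgroup.index_dvd_of_le (le_sup_left : C ≤ C ⊔ zpowers x)
      rw [hCi] at h2
      rcases (Nat.dvd_prime hp).1 h2 with h3 | h3
      · exact h (index_eq_one.1 h3)
      · have h4 := Subgroup.relIndex_mul_index (le_sup_left : C ≤ C ⊔ zpowers x)
        rw [h3, hCi] at h4
        have h5 : C.relIndex (C ⊔ zpowers x) = 1 :=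
          Nat.eq_of_mul_eq_mul_right hp.pos (h4.trans (one_mul p).symm)
        exact hxC (Subgroup.relIndex_eq_one.1 h5 (mem_sup_right (mem_zpowers x)))
    have hle : C ⊔ zpowers x ≤ centralizer ({c} : Set P) :=
      sup_le (fun z hz => mem_centralizer_singleton_iff.2 (hCab z hz c hcC))
        (zpowers_le.2 (mem_centralizer_singleton_iff.2 (mem_center_iff.1 hx c).symm))
    exact mem_centralizer_singleton_iff.1 (hle (hsup' ▸ mem_top g))
  have hker : φ.ker = (center P).subgroupOf C := by
    ext x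
    rw [MonoidHom.mem_ker, mem_subgroupOf, hcy x x.2]
    exact Subtype.ext_iff
  have hφ : Function.Surjective φ := by
    have hr : Nat.card φ.range ∣ p := hcard ▸ Subgroup.card_subgroup_dvd_card φ.range
    rcases (Nat.dvd_prime hp).1 hr with h | h
    · exfalso
      refine hc ((hcy c hcC).2 ?_)
      have := (card_eq_one.1 h).le (⟨⟨c, hcC⟩, rfl⟩ : φ ⟨c, hcC⟩ ∈ φ.range)
      exact congrArg Subtype.val (mem_bot.1 this)
    · exact MonoidHom.range_eq_top.1 (eq_top_of_card_eq _ (h.trans hcard.symm))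
  have hidx : (center P).index = p ^ 2 := by
    have h1 : (center P).relIndex C = p := by
      rw [Subgroup.relIndex, ← hker, Subgroup.index_ker, MonoidHom.range_eq_top.2 hφ, card_top, hcard]
    rw [← Subgroup.relIndex_mul_index hZC, h1, hCi, sq]
  -- a complement of P' in the centre
  obtain ⟨A', -, -, hA'1, hA'2⟩ := exists_complement (P := center P) ⊥ (Z₀.subgroupOf (center P))
    (fun x _ => mem_center_iff.2 fun y => Subtype.ext (mem_center_iff.1 x.2 (y : P)))
    (bot_inf_eq _) (fun x => mem_bot.2 (pow_eq_one_of_elementary hZ x))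
    (by
      rw [_root_.commutator_def, commutator_le]
      intro a _ b _
      rw [mem_bot, commutatorElement_eq_one_iff_mul_comm]
      exact Subtype.ext (mem_center_iff.1 b.2 (a : P)))
  set A := A'.map (center P).subtype with hA
  have hAc : A ≤ center P := map_subtype_le A'
  have hAZ : Z₀ ⊓ A = ⊥ := by
    rw [eq_bot_iff]
    rintro x ⟨hx, a, ha, rfl⟩
    have : a ∈ A' ⊓ Z₀.subgroupOf (center P) := ⟨ha, hx⟩
    rw [hA'1, mem_bot] at this
    rw [this]; rfl
  obtain ⟨K, hZK, -, hKA, hKA'⟩ := exists_complement Z₀ A hAc hAZ hpow le_rfl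
  let e := mulEquivProd K A hAc hKA hKA'
  have hcardA : Nat.card (center P) = Nat.card A * p := by
    have hA'c : A' ≤ center (center P) :=
      fun x _ => mem_center_iff.2 fun y => Subtype.ext (mem_center_iff.1 x.2 (y : P))
    have h := Nat.card_congr (mulEquivProd (Z₀.subgroupOf (center P)) A' hA'c
      (by rw [inf_comm]; exact hA'1) (by rw [sup_comm]; exact hA'2)).toEquiv
    rw [h, Nat.card_prod, Nat.card_congr (subgroupOfEquivOfLe hZ₀c).toEquiv, hcard, hA,
      card_map_of_injective (center P).subtype_injective, mul_comm]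
  have hKcard : Nat.card K = p ^ 3 := by
    have h1 := Nat.card_congr e.toEquiv
    rw [Nat.card_prod, ← (center P).card_mul_index, hidx, hcardA] at h1
    have hpos : 0 < Nat.card A := Nat.card_pos
    have h2 : Nat.card A * p ^ 3 = Nat.card A * Nat.card K := by rw [mul_comm _ (Nat.card K), ← h1]; ring
    exact (Nat.eq_of_mul_eq_mul_left hpos h2).symm
  have hcen : center K = Z₀.subgroupOf K := by
    refine le_antisymm (fun x hx => ?_) fun x hx => mem_center_iff.2 fun y =>
      Subtype.ext (mem_center_iff.1 (hZ₀c hx) (y : P))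
    have hxP : (x : P) ∈ center P := mem_center_iff.2 fun g => by
      have : A.Normal := ⟨fun a ha g => by rw [mem_center_iff.1 (hAc ha) g, mul_inv_cancel_right]; exact ha⟩
      obtain ⟨k, hk, a, ha, rfl⟩ := mem_sup_of_normal_right.1 (hKA'.symm ▸ mem_top g : g ∈ K ⊔ A)
      have h1 : k * (x : P) = x * k := congrArg Subtype.val (mem_center_iff.1 hx ⟨k, hk⟩)
      rw [mul_assoc, ← mem_center_iff.1 (hAc ha) (x : P), ← mul_assoc, h1, mul_assoc]
    have hmem : (⟨x, hxP⟩ : center P) ∈ A' ⊔ Z₀.subgroupOf (center P) := hA'2 ▸ mem_top _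
    have hn : (Z₀.subgroupOf (center P)).Normal := inferInstance
    obtain ⟨a, ha, z, hz, haz⟩ := mem_sup_of_normal_right.1 hmem
    have haK : (a : P) ∈ K ⊓ A := ⟨by
      rw [show (a : P) = (x : P) * (z : P)⁻¹ from eq_mul_inv_iff_mul_eq.2 (congrArg Subtype.val haz)]
      exact K.mul_mem x.2 (K.inv_mem (hZK hz)), a, ha, rfl⟩
    rw [hKA, mem_bot] at haK
    rw [mem_subgroupOf, ← congrArg Subtype.val haz]
    show (a : P) * z ∈ Z₀
    rw [haK, one_mul]; exact hz
  have hcencard : Nat.card (center K) = p := by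
    rw [hcen, Nat.card_congr (subgroupOfEquivOfLe hZK).toEquiv, hcard]
  have hKp : IsPGroup p K := hP.to_subgroup K
  have hKcomm : _root_.commutator K = center K := by
    have hle : _root_.commutator K ≤ center K := by
      rw [hcen]
      refine Subgroup.commutator_le.2 fun a _ b _ => ?_
      exact commutator_mem_commutator (mem_top (a : P)) (mem_top (b : P))
    rcases (Nat.dvd_prime hp).1 (hcencard ▸ Subgroup.card_dvd_of_le hle) with h | h
    · exfalso
      have : center K = ⊤ := eq_top_iff.2 fun a _ => mem_center_iff.2 fun b => by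
        rw [← commutatorElement_eq_one_iff_mul_comm]
        exact mem_bot.1 ((card_eq_one.1 h).le (commutator_mem_commutator (mem_top b) (mem_top a)))
      rw [this, card_top, hKcard] at hcencard
      have := Nat.pow_right_injective hp.two_le (hcencard.trans (pow_one p).symm)
      omega
    · exact eq_of_le_of_card_ge hle (by rw [h, hcencard])
  refine ⟨K, A, hAc, hKA, hKA', hKp, hKcard, hcen, hKcomm, le_antisymm ?_ ?_, hcencard⟩
  · refine PGroup.frattini_le_of_quotient_elementary (p := p) ?_ ?_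
    · exact hKcomm.le
    · intro a
      rw [hcen]
      exact hpow a
  · rw [← hKcomm]; exact PGroup.commutator_le_frattini hKp

theorem exists_decomp_odd (hexp : ∀ x : P, x ^ p = 1) :
    ∃ (E : Type) (_ : Group E) (A : Type) (_ : CommGroup A), Cfsg.IsExtraspecial p E ∧ Nat.card E = p ^ 3 ∧
      Monoid.exponent E = p ∧ (∀ a : A, a ^ p = 1) ∧ Nonempty (P ≃* E × A) := by
  obtain ⟨K, A, hAc, h1, h2, hKp, hK3, -, hKc, hKf, hKz⟩ := exists_decomp hcard hfr hP hZ hCi hcC hc hCab
  have hAcomm : IsMulCommutative A := ⟨⟨fun a b => Subtype.ext (mem_center_iff.1 (hAc b.2) (a : P))⟩⟩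
  let eK := Shrink.mulEquiv.{0} (α := K)
  let eA := Shrink.mulEquiv.{0} (α := A)
  let iA : CommGroup (Shrink.{0} A) :=
    { (inferInstance : Group (Shrink.{0} A)) with
      mul_comm := fun a b => eA.injective (by rw [map_mul, map_mul]; exact mul_comm' _ _) }
  refine ⟨Shrink.{0} K, inferInstance, Shrink.{0} A, iA, ⟨⟨hKp.of_equiv eK.symm, ?_, ?_⟩, ?_⟩, ?_, ?_, ?_, ?_⟩
  · refine Subgroup.map_injective (f := eK.toMonoidHom) eK.injective ?_
    rw [PGroup.frattini_map (hKp.of_equiv eK.symm) eK.surjective, map_center_equiv eK, hKf]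
  · refine Subgroup.map_injective (f := eK.toMonoidHom) eK.injective ?_
    rw [map_center_equiv eK, ← hKc, _root_.commutator_def, _root_.commutator_def, map_commutator,
      map_top_of_surjective _ eK.surjective]
  · rw [← card_map_of_injective (f := eK.toMonoidHom) eK.injective, map_center_equiv eK, hKz]
  · rw [Nat.card_congr eK.toEquiv, hK3]
  · rw [Monoid.exponent_eq_of_mulEquiv eK]
    have hdvd : Monoid.exponent K ∣ p := Monoid.exponent_dvd_of_forall_pow_eq_one fun k =>
      Subtype.ext (by rw [SubgroupClass.coe_pow]; exact hexp k)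
    rcases (Nat.dvd_prime Fact.out).1 hdvd with h | h
    · exfalso
      have hs : Subsingleton K := Monoid.exp_eq_one_iff.1 h
      rw [Nat.card_of_subsingleton (1 : K)] at hK3
      have := (Fact.out : p.Prime).two_le
      exact absurd hK3 (Nat.one_lt_pow (by norm_num) (by omega)).ne
    · exact h
  · intro a
    exact eA.injective (by rw [map_pow, map_one]; exact Subtype.ext (by
      rw [SubgroupClass.coe_pow]; exact hexp _))
  · exact ⟨(mulEquivProd K A hAc h1 h2).trans (eK.symm.prodCongr eA.symm)⟩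
where
  map_center_equiv {G H : Type _} [Group G] [Group H] (e : G ≃* H) :
      (center G).map e.toMonoidHom = center H := by
    ext x
    constructor
    · rintro ⟨a, ha, rfl⟩
      refine mem_center_iff.2 fun h => ?_
      obtain ⟨g, rfl⟩ := e.surjective h
      exact (map_mul e g a).symm.trans ((congrArg e (mem_center_iff.1 ha g)).trans (map_mul e a g))
    · intro hx
      refine ⟨e.symm x, mem_center_iff.2 fun g => e.injective ?_, e.apply_symm_apply x⟩
      rw [map_mul, map_mul, e.apply_symm_apply, mem_center_iff.1 hx]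

theorem exists_decomp_two (hp2 : p = 2) {y : P} (hy : y ^ 2 = 1) (hc2 : c ^ 2 = 1) (hyc : ⁅y, c⁆ ≠ 1) :
    ∃ (A : Type) (_ : CommGroup A), (∀ a : A, a ^ 2 = 1) ∧ Nonempty (P ≃* DihedralGroup 4 × A) := by
  subst hp2
  obtain ⟨K, A, hAc, h1, h2, -, hK3, -, -, -, -⟩ := exists_decomp hcard hfr hP hZ hCi hcC hc hCab
  have hAn : A.Normal :=
    ⟨fun a ha g => by rw [mem_center_iff.1 (hAc ha) g, mul_inv_cancel_right]; exact ha⟩
  have hsplit : ∀ g : P, g ^ 2 = 1 → ∃ k : K, k ^ 2 = 1 ∧ ∃ a ∈ A, g = k * a := by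
    intro g hg
    obtain ⟨k, hk, a, ha, rfl⟩ := mem_sup_of_normal_right.1 (h2.symm ▸ mem_top g : g ∈ K ⊔ A)
    refine ⟨⟨k, hk⟩, Subtype.ext ?_, a, ha, rfl⟩
    have hcomm : Commute k a := mem_center_iff.1 (hAc ha) k
    rw [hcomm.mul_pow, hZ a (hAc ha), mul_one] at hg
    exact hg
  obtain ⟨t, ht, a, ha, rfl⟩ := hsplit y hy
  obtain ⟨s, hs, b, hb, rfl⟩ := hsplit c hc2
  have hts : ⁅(t : P), (s : P)⁆ ≠ 1 := by
    intro h
    refine hyc ?_
    rw [commutatorElement_eq_one_iff_mul_comm] at h ⊢
    calc (t : P) * a * (s * b) = t * (a * s) * b := by group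
      _ = t * s * (a * b) := by rw [← mem_center_iff.1 (hAc ha) (s : P)]; group
      _ = s * t * (a * b) := by rw [h]
      _ = s * (t * b) * a := by rw [mem_center_iff.1 (hAc hb) a]; group
      _ = (s : P) * b * (t * a) := by rw [mem_center_iff.1 (hAc hb) (t : P)]; group
  have hsi : s⁻¹ = s := inv_eq_of_mul_eq_one_right (by rw [← pow_two]; exact hs)
  have hti : t⁻¹ = t := inv_eq_of_mul_eq_one_right (by rw [← pow_two]; exact ht)
  set ρ : K := t * s with hρdef
  have hρ4 : ρ ^ 4 = 1 := Subtype.ext (by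
    have h1 : (ρ : P) ^ 2 ∈ _root_.commutator P := hfr ▸ PGroup.pow_mem_frattini hP _
    rw [SubgroupClass.coe_pow, pow_mul (ρ : P) 2 2]
    exact hZ _ (PGroup.le_center_of_card_eq hP hcard h1))
  have hρ2 : ρ ^ 2 ≠ 1 := by
    intro h
    refine hts ?_
    have h' : ρ ^ 2 = ⁅t, s⁆ := by rw [hρdef, commutatorElement_def, hti, hsi, pow_two]; group
    exact (congrArg Subtype.val (h'.symm.trans h) : _)
  have hord : orderOf ρ = 4 := by
    rw [show (4 : ℕ) = 2 ^ (1 + 1) from rfl]
    exact orderOf_eq_prime_pow hρ2 hρ4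
  have hsρ : ∀ n : ℕ, s * ρ ^ n * s⁻¹ = (ρ ^ n)⁻¹ := by
    intro n
    rw [← conj_pow, ← inv_pow]
    congr 1
    rw [hρdef, mul_inv_rev, hsi, hti, mul_assoc s (t * s) s, mul_assoc t s s, ← pow_two, hs, mul_one]
  have hval : ∀ i j : ZMod 4, ρ ^ (i + j).val = ρ ^ i.val * ρ ^ j.val := by
    intro i j
    rw [ZMod.val_add, ← pow_add]
    exact (pow_eq_pow_mod _ hρ4).symm
  let f : DihedralGroup 4 →* K :=
    { toFun := fun g => match g with
        | .r i => ρ ^ i.val
        | .sr i => s * ρ ^ i.val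
      map_one' := by show ρ ^ (0 : ZMod 4).val = 1; simp
      map_mul' := by
        have hsub : ∀ i j : ZMod 4, ρ ^ (j - i).val = (ρ ^ i.val)⁻¹ * ρ ^ j.val := fun i j => by
          rw [eq_inv_mul_iff_mul_eq, ← hval, add_sub_cancel]
        have hflip : ∀ n : ℕ, ρ ^ n * s = s * (ρ ^ n)⁻¹ := fun n => by rw [← hsρ n, hsi]; simp [← mul_assoc, ← pow_two, hs]
        rintro (i | i) (j | j) <;>
          simp only [DihedralGroup.r_mul_r, DihedralGroup.r_mul_sr, DihedralGroup.sr_mul_r,
            DihedralGroup.sr_mul_sr]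
        · exact hval i j
        · rw [hsub, ← mul_assoc (ρ ^ i.val), hflip, mul_assoc]
        · rw [hval, mul_assoc]
        · rw [hsub, mul_assoc s, ← mul_assoc (ρ ^ i.val), hflip, ← mul_assoc, ← mul_assoc, ← pow_two, hs, one_mul] }
  have hinj : Function.Injective f := by
    have hlt : ∀ i j : ZMod 4, ρ ^ i.val = ρ ^ j.val → i = j := fun i j h =>
      ZMod.val_injective 4 (pow_injOn_Iio_orderOf (by rw [hord]; exact ZMod.val_lt i)
        (by rw [hord]; exact ZMod.val_lt j) h)
    have hne : ∀ n : ℕ, s ≠ ρ ^ n := fun n h => by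
      refine hts ?_
      rw [commutatorElement_eq_one_iff_mul_comm]
      have hc' : Commute ρ s := h ▸ (Commute.refl ρ).pow_right n
      have : t * s = s * t := by
        have h3 : t * s * s = s * (t * s) := hc'
        calc t * s = (t * s * s) * s⁻¹ := by group
          _ = s * (t * s) * s⁻¹ := by rw [h3]
          _ = s * t := by group
      exact congrArg Subtype.val this
    rintro (i | i) (j | j) h
    · exact congrArg _ (hlt i j h)
    · have h0 : ρ ^ i.val = s * ρ ^ j.val := h
      exact absurd (eq_mul_inv_of_mul_eq h0.symm) (fun h' => hne (i - j).val (by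
        refine h'.trans ?_; rw [eq_comm, eq_mul_inv_iff_mul_eq, ← hval, sub_add_cancel]))
    · have h0 : s * ρ ^ i.val = ρ ^ j.val := h
      exact absurd (eq_mul_inv_of_mul_eq h0) (fun h' => hne (j - i).val (by
        refine h'.trans ?_; rw [eq_comm, eq_mul_inv_iff_mul_eq, ← hval, sub_add_cancel]))
    · exact congrArg _ (hlt i j (mul_left_cancel h))
  have hbij : Function.Bijective f := (Nat.bijective_iff_injective_and_card f).2
    ⟨hinj, by rw [DihedralGroup.nat_card, hK3]; norm_num⟩
  have hAcomm : IsMulCommutative A := ⟨⟨fun a b => Subtype.ext (mem_center_iff.1 (hAc b.2) (a : P))⟩⟩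
  let eA := Shrink.mulEquiv.{0} (α := A)
  let iA : CommGroup (Shrink.{0} A) :=
    { (inferInstance : Group (Shrink.{0} A)) with
      mul_comm := fun a b => eA.injective (by rw [map_mul, map_mul]; exact mul_comm' _ _) }
  refine ⟨Shrink.{0} A, iA, fun a => eA.injective ?_,
    ⟨(mulEquivProd K A hAc h1 h2).trans ((MulEquiv.ofBijective f hbij).symm.prodCongr eA.symm)⟩⟩
  rw [map_pow, map_one]
  exact Subtype.ext (by rw [SubgroupClass.coe_pow]; exact hZ _ (hAc (eA a).2))

end Decomp

end Cfsg.Agent.GenExtraspecial
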